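import Cfsg.Agent.Omega.Lie.HeisCover

/-!
# S1870: a lower bound `dim V ≥ 114` from the Heisenberg group `3^{1+6}` and one more involution (helper293)

`z; x i, y i` (`i < 3`) a Heisenberg configuration for the prime 3, `j` an involution which commutes with it, `g` commutes
with `j`, `g z g⁻¹ = x 0 * x 1 * x 2`, the `x i` are conjugate in `C(z)`, and a conjugate of `j` inverts `x 0`. Then every module
`V` over `𝔽₂` on which `z` acts nontrivially has dimension at least 114.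

`d = dim [V, z] ≥ 54`, `E = ⟨z, x 0 x 1 x 2⟩`, `3 n ≥ 3 dim C_V(E) + 4 d`. If `d < 108` then `j` is trivial on `[V, z]`,
`[V, j] ≤ C_V(E)`, `dim C_V(E) ≥ 2 dim [V, j] ≥ 42`.
-/

set_option autoImplicit false
set_option linter.unusedVariables false
set_option linter.unusedSectionVars false

namespace Cfsg.Agent.H293.FF.YDim

open Module Cfsg.Agent.Omega.Lie Cfsg.Agent.Omega.Lie.Heis

universe u v

section

variable {G : Type u} [Group G] {V : Type v} [AddCommGroup V] [Module (ZMod 2) V]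
  (ρ : G →* (V →ₗ[ZMod 2] V))

/-- the fixed points of `g` -/
def fx (g : G) : Submodule (ZMod 2) V := LinearMap.ker (ρ g - 1)

/-- `[V, g]` -/
def im (g : G) : Submodule (ZMod 2) V := LinearMap.range (ρ g - 1)

variable {ρ}

theorem mem_fx {g : G} {v : V} : v ∈ fx ρ g ↔ ρ g v = v := by
  rw [fx, LinearMap.mem_ker, LinearMap.sub_apply, Module.End.one_apply, sub_eq_zero]

theorem mem_im {g : G} {v : V} : v ∈ im ρ g ↔ ∃ w : V, ρ g w + w = v := by
  rw [im, LinearMap.mem_range]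
  constructor
  · rintro ⟨w, rfl⟩
    exact ⟨w, by rw [LinearMap.sub_apply, Module.End.one_apply, ZModModule.sub_eq_add]⟩
  · rintro ⟨w, rfl⟩
    exact ⟨w, by rw [LinearMap.sub_apply, Module.End.one_apply, ZModModule.sub_eq_add]⟩

theorem mul_ap (g k : G) (v : V) : ρ (g * k) v = ρ g (ρ k v) := by
  rw [map_mul]; rfl

theorem one_ap (v : V) : ρ 1 v = v := by
  rw [map_one]; rfl

theorem inv_ap (g : G) (v : V) : ρ g (ρ g⁻¹ v) = v := by
  rw [← mul_ap, mul_inv_cancel, one_ap]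

theorem inv_ap' (g : G) (v : V) : ρ g⁻¹ (ρ g v) = v := by
  rw [← mul_ap, inv_mul_cancel, one_ap]

theorem comm_ap {g k : G} (h : g * k = k * g) (v : V) : ρ g (ρ k v) = ρ k (ρ g v) := by
  rw [← mul_ap, h, mul_ap]

/-- `ρ g` as an equivalence -/
def eqv (ρ : G →* (V →ₗ[ZMod 2] V)) (g : G) : V ≃ₗ[ZMod 2] V :=
  LinearEquiv.ofLinearMap (ρ g) (ρ g⁻¹) (LinearMap.ext fun v => inv_ap g v) (LinearMap.ext fun v => inv_ap' g v)

theorem eqv_ap (g : G) (v : V) : eqv ρ g v = ρ g v := rfl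

/-- conjugation invariance for a family of subspaces -/
theorem finrank_map (g : G) (U : Submodule (ZMod 2) V) :
    finrank (ZMod 2) (U.map (eqv ρ g).toLinearMap) = finrank (ZMod 2) U :=
  LinearEquiv.finrank_map_eq (eqv ρ g) U

theorem fx_conj (g x : G) : fx ρ (g * x * g⁻¹) = (fx ρ x).map (eqv ρ g).toLinearMap := by
  ext v
  rw [mem_fx, Submodule.mem_map]
  constructor
  · intro h
    refine ⟨ρ g⁻¹ v, ?_, inv_ap g v⟩
    rw [mem_fx]
    have h1 := congrArg (ρ g⁻¹) h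
    rw [mul_ap, mul_ap, inv_ap'] at h1
    exact h1
  · rintro ⟨w, hw, rfl⟩
    rw [mem_fx] at hw
    show ρ (g * x * g⁻¹) (ρ g w) = ρ g w
    rw [mul_ap, mul_ap, inv_ap', hw]

theorem finrank_fx_conj (g x : G) : finrank (ZMod 2) (fx ρ (g * x * g⁻¹)) = finrank (ZMod 2) (fx ρ x) := by
  rw [fx_conj, finrank_map]

/-- `C_V(z) ∩ C_V(x)` for `s z = z s` -/
theorem finrank_inf_conj {s z : G} (hs : s * z = z * s) (x : G) :
    finrank (ZMod 2) ↥(fx ρ z ⊓ fx ρ (s * x * s⁻¹)) = finrank (ZMod 2) ↥(fx ρ z ⊓ fx ρ x) := by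
  have h1 : fx ρ z = (fx ρ z).map (eqv ρ s).toLinearMap := by
    rw [← fx_conj]
    congr 1
    rw [hs, mul_inv_cancel_right]
  rw [fx_conj]
  conv_lhs => rw [h1]
  rw [← Submodule.map_inf _ (eqv ρ s).injective, finrank_map]

variable [Finite V]

theorem finrank_im_add (g : G) :
    finrank (ZMod 2) (im ρ g) + finrank (ZMod 2) (fx ρ g) = finrank (ZMod 2) V :=
  LinearMap.finrank_range_add_finrank_ker _

/-- the image and the kernel of `ρ g - 1` on a subspace -/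
theorem finrank_map_add (g : G) (U : Submodule (ZMod 2) V) :
    finrank (ZMod 2) (U.map (ρ g - 1)) + finrank (ZMod 2) ↥(U ⊓ fx ρ g) = finrank (ZMod 2) U := by
  have h1 := LinearMap.finrank_range_add_finrank_ker ((ρ g - 1).domRestrict U)
  have h2 : LinearMap.range ((ρ g - 1).domRestrict U) = U.map (ρ g - 1) := by
    rw [LinearMap.range_domRestrict]
  have h3 : (LinearMap.ker ((ρ g - 1).domRestrict U)).map U.subtype = U ⊓ fx ρ g := by
    ext v
    rw [Submodule.mem_map]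
    constructor
    · rintro ⟨w, hw, rfl⟩
      exact ⟨w.2, hw⟩
    · rintro ⟨hv, hk⟩
      exact ⟨⟨v, hv⟩, hk, rfl⟩
  rw [h2] at h1
  rw [← h3, Submodule.finrank_map_subtype_eq]
  exact h1

/-! ### Order three -/

theorem cube {z : G} (hz : z ^ 3 = 1) (v : V) : ρ z (ρ z (ρ z v)) = v := by
  rw [← mul_ap, ← mul_ap]
  have h1 : z * z * z = 1 := by rw [← hz, pow_succ, pow_two]
  rw [h1, one_ap]

/-- `v + z v + z² v` is fixed -/
theorem norm_mem {z : G} (hz : z ^ 3 = 1) (v : V) : v + ρ z v + ρ z (ρ z v) ∈ fx ρ z := by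
  rw [mem_fx, map_add, map_add, cube hz]
  abel

/-- `z v + z² v ∈ [V, z]` -/
theorem rest_mem (z : G) (v : V) : ρ z v + ρ z (ρ z v) ∈ im ρ z := by
  rw [mem_im]
  exact ⟨ρ z v, by abel⟩

theorem split (z : G) (v : V) : v = (v + ρ z v + ρ z (ρ z v)) + (ρ z v + ρ z (ρ z v)) := by
  have h1 := ZModModule.add_self (ρ z v + ρ z (ρ z v))
  rw [add_assoc v, add_assoc v, h1, add_zero]

/-- `[V, z] ∩ C_V(z) = 0` -/
theorem eq_zero {z : G} (hz : z ^ 3 = 1) {v : V} (h1 : v ∈ im ρ z) (h2 : v ∈ fx ρ z) : v = 0 := by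
  obtain ⟨w, rfl⟩ := mem_im.1 h1
  rw [mem_fx, map_add] at h2
  -- `z² w + z w = z w + w`, so `z² w = w`, `z w = w`
  have h3 : ρ z (ρ z w) = w := by
    have h4 : ρ z (ρ z w) + ρ z w = w + ρ z w := by rw [h2, add_comm]
    exact add_right_cancel h4
  have h4 : ρ z w = w := by
    have := cube (ρ := ρ) hz w
    rwa [h3] at this
  rw [h4]
  exact ZModModule.add_self w

theorem sup_eq {z : G} (hz : z ^ 3 = 1) : fx ρ z ⊔ im ρ z = ⊤ := by
  rw [eq_top_iff]
  intro v _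
  rw [split z v]
  exact add_mem ((le_sup_left : fx ρ z ≤ _) (norm_mem hz v)) ((le_sup_right : im ρ z ≤ _) (rest_mem z v))

/-- **The four hyperplanes** of `⟨z, w⟩`. -/
theorem sup_four {z w : G} (hz : z ^ 3 = 1) (hw : w ^ 3 = 1) (hzw : z * w = w * z) :
    fx ρ z ⊔ fx ρ w ⊔ fx ρ (z * w) ⊔ fx ρ (z * (z * w)) = ⊤ := by
  have hzw3 : (z * w) ^ 3 = 1 := by
    have h1 : Commute z w := hzw
    rw [h1.mul_pow, hz, hw, one_mul]
  have hzzw3 : (z * (z * w)) ^ 3 = 1 := by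
    have h1 : Commute z (z * w) := (Commute.refl z).mul_right hzw
    rw [h1.mul_pow, hz, hzw3, one_mul]
  have hc : ∀ v : V, ρ z (ρ w v) = ρ w (ρ z v) := fun v => comm_ap hzw v
  have z3 : ∀ v : V, ρ z (ρ z (ρ z v)) = v := fun v => cube hz v
  have w3 : ∀ v : V, ρ w (ρ w (ρ w v)) = v := fun v => cube hw v
  rw [eq_top_iff]
  intro v _
  -- the norms
  have n1 := norm_mem (ρ := ρ) hz v
  have n2 := norm_mem (ρ := ρ) hw v
  have n3 := norm_mem (ρ := ρ) hzw3 v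
  have n4 := norm_mem (ρ := ρ) hzzw3 v
  have n5 := norm_mem (ρ := ρ) hz (v + ρ w v + ρ w (ρ w v))
  have key : v = (v + ρ z v + ρ z (ρ z v)) + (v + ρ w v + ρ w (ρ w v)) +
      (v + ρ (z * w) v + ρ (z * w) (ρ (z * w) v)) +
      (v + ρ (z * (z * w)) v + ρ (z * (z * w)) (ρ (z * (z * w)) v)) +
      ((v + ρ w v + ρ w (ρ w v)) + ρ z (v + ρ w v + ρ w (ρ w v)) + ρ z (ρ z (v + ρ w v + ρ w (ρ w v)))) := by
    simp only [mul_ap, map_add]
    -- normal form `w^i z^j v`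
    have e1 : ρ z (ρ w (ρ z (ρ w v))) = ρ w (ρ w (ρ z (ρ z v))) := by
      rw [hc (ρ z (ρ w v)), hc v, hc (ρ z v)]
    have e2 : ρ z (ρ z (ρ w (ρ z (ρ z (ρ w v))))) = ρ w (ρ w (ρ z v)) := by
      simp only [hc, z3]
    rw [e1, e2]
    simp only [hc]
    have two : ∀ x : V, x + x = 0 := fun x => ZModModule.add_self x
    generalize ρ w (ρ w (ρ z (ρ z v))) = a22
    generalize ρ w (ρ w (ρ z v)) = a21
    generalize ρ w (ρ z (ρ z v)) = a12
    generalize ρ w (ρ z v) = a11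
    generalize ρ w (ρ w v) = a20
    generalize ρ w v = a10
    generalize ρ z (ρ z v) = a02
    generalize ρ z v = a01
    have h : (v + a01 + a02) + (v + a10 + a20) + (v + a11 + a22) + (v + a12 + a21) +
        ((v + a10 + a20) + (a01 + a11 + a21) + (a02 + a12 + a22)) =
        v + ((v + v) + (v + v) + (a01 + a01) + (a02 + a02) + (a10 + a10) + (a20 + a20) + (a11 + a11) +
          (a22 + a22) + (a12 + a12) + (a21 + a21)) := by abel
    rw [h]
    simp only [two, add_zero]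
  rw [key]
  have l1 : fx ρ z ≤ fx ρ z ⊔ fx ρ w ⊔ fx ρ (z * w) ⊔ fx ρ (z * (z * w)) :=
    le_sup_left.trans (le_sup_left.trans le_sup_left)
  have l2 : fx ρ w ≤ fx ρ z ⊔ fx ρ w ⊔ fx ρ (z * w) ⊔ fx ρ (z * (z * w)) :=
    le_sup_right.trans (le_sup_left.trans le_sup_left)
  have l3 : fx ρ (z * w) ≤ fx ρ z ⊔ fx ρ w ⊔ fx ρ (z * w) ⊔ fx ρ (z * (z * w)) :=
    le_sup_right.trans le_sup_left
  have l4 : fx ρ (z * (z * w)) ≤ fx ρ z ⊔ fx ρ w ⊔ fx ρ (z * w) ⊔ fx ρ (z * (z * w)) := le_sup_right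
  exact add_mem (add_mem (add_mem (add_mem (l1 n1) (l2 n2)) (l3 n3)) (l4 n4)) (l1 n5)

/-- the dimension of the sum of two subspaces which contain `E` -/
theorem sup_le {A B E : Submodule (ZMod 2) V} (hA : E ≤ A) (hB : E ≤ B) :
    finrank (ZMod 2) ↥(A ⊔ B) + finrank (ZMod 2) E ≤ finrank (ZMod 2) A + finrank (ZMod 2) B := by
  rw [← Submodule.finrank_sup_add_finrank_inf_eq A B]
  exact Nat.add_le_add_left (Submodule.finrank_mono (le_inf hA hB)) _

/-- `n + 3 e ≤` the sum of the dimensions of the fixed spaces -/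
theorem four_le {z w : G} (hz : z ^ 3 = 1) (hw : w ^ 3 = 1) (hzw : z * w = w * z) :
    finrank (ZMod 2) V + 3 * finrank (ZMod 2) ↥(fx ρ z ⊓ fx ρ w) ≤
      finrank (ZMod 2) (fx ρ z) + finrank (ZMod 2) (fx ρ w) + finrank (ZMod 2) (fx ρ (z * w)) +
        finrank (ZMod 2) (fx ρ (z * (z * w))) := by
  set E := fx ρ z ⊓ fx ρ w with hE
  have e1 : E ≤ fx ρ z := inf_le_left
  have e2 : E ≤ fx ρ w := inf_le_right
  have e3 : E ≤ fx ρ (z * w) := by
    intro v hv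
    rw [mem_fx, mul_ap, mem_fx.1 (e2 hv), mem_fx.1 (e1 hv)]
  have e4 : E ≤ fx ρ (z * (z * w)) := by
    intro v hv
    rw [mem_fx, mul_ap, mem_fx.1 (e3 hv), mem_fx.1 (e1 hv)]
  have h1 := sup_le e1 e2
  have h2 := sup_le (e1.trans (le_sup_left : _ ≤ fx ρ z ⊔ fx ρ w)) e3
  have h3 := sup_le ((e1.trans (le_sup_left : _ ≤ fx ρ z ⊔ fx ρ w)).trans
    (le_sup_left : _ ≤ fx ρ z ⊔ fx ρ w ⊔ fx ρ (z * w))) e4
  rw [sup_four hz hw hzw, finrank_top] at h3
  omega

/-! ### The Heisenberg bounds -/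

theorem ord_three : orderOf (Nat.card (ZMod 2) : ZMod 3) = 2 := by
  rw [Nat.card_zmod, orderOf_eq_iff (by norm_num)]
  refine ⟨by decide, fun m hm hm0 => ?_⟩
  interval_cases m
  decide

variable {z : G} {x y : Fin 3 → G}

/-- an invariant subspace on which `z` is nontrivial has dimension at least 54 -/
theorem heis_sub (h : Heis 3 3 z x y) (E : Subgroup G) (hz : z ∈ E) (hx : ∀ i, x i ∈ E) (hy : ∀ i, y i ∈ E)
    (U : Submodule (ZMod 2) V) (hU : ∀ e ∈ E, ∀ u ∈ U, ρ e u ∈ U) (hne : ∃ u ∈ U, ρ z u ≠ u) :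
    54 ≤ finrank (ZMod 2) U := by
  let r : E →* (U →ₗ[ZMod 2] U) :=
    { toFun := fun e => (ρ e).restrict (hU e e.2)
      map_one' := by
        ext u
        show ρ 1 (u : V) = u
        exact one_ap _
      map_mul' := fun a b => by
        ext u
        show ρ ((a : G) * b) (u : V) = ρ a (ρ b u)
        exact mul_ap _ _ _ }
  have h' : Heis 3 3 (⟨z, hz⟩ : E) (fun i => ⟨x i, hx i⟩) (fun i => ⟨y i, hy i⟩) :=
    { prime := h.prime
      zr := Subtype.ext h.zr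
      xr := fun i => Subtype.ext (h.xr i)
      zx := fun i => Subtype.ext (h.zx i)
      zy := fun i => Subtype.ext (h.zy i)
      xx := fun i j => Subtype.ext (h.xx i j)
      yx := fun i j hij => Subtype.ext (h.yx i j hij)
      conj := fun i => Subtype.ext (h.conj i) }
  have h3 : ((3 : ℕ) : ZMod 2) ≠ 0 := by decide
  have h1 := Heis.finrank_le (F := ZMod 2) r h' h3 (by
    intro h2
    obtain ⟨u, hu, hne⟩ := hne
    apply hne
    have h4 : r ⟨z, hz⟩ ⟨u, hu⟩ = ⟨u, hu⟩ := by rw [h2]; rfl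
    exact congrArg Subtype.val h4)
  rw [ord_three] at h1
  exact h1

/-- `3 dim (C_V(x i) ∩ [V, z]) ≤ dim [V, z]` -/
theorem three_le (h : Heis 3 3 z x y) (i : Fin 3) :
    3 * finrank (ZMod 2) ↥(fx ρ (x i) ⊓ im ρ z) ≤ finrank (ZMod 2) (im ρ z) := by
  let _ : DistribMulAction G V :=
    { smul := fun g v => ρ g v
      one_smul := fun v => one_ap v
      mul_smul := fun g k v => mul_ap g k v
      smul_zero := fun g => map_zero (ρ g)
      smul_add := fun g v w => map_add (ρ g) v w }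
  have hs : ∀ (g : G) (v : V), g • v = ρ g v := fun _ _ => rfl
  have ht : ∀ v : V, 3 • v = 0 → v = 0 := by
    intro v hv
    have h1 : (3 : ℕ) • v = v := by
      rw [show (3 : ℕ) = 2 + 1 from rfl, add_nsmul, one_nsmul, two_nsmul, ZModModule.add_self, zero_add]
    rwa [h1] at hv
  have hinv : ∀ g : G, z * g = g * z → ∀ v ∈ (im ρ z).toAddSubgroup, g • v ∈ (im ρ z).toAddSubgroup := by
    intro g hg v hv
    obtain ⟨w, rfl⟩ := mem_im.1 hv
    refine mem_im.2 ⟨ρ g w, ?_⟩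
    rw [hs, map_add, comm_ap hg]
  have hstep : Step 3 z (x i) (y i) (im ρ z).toAddSubgroup :=
    { prime := h.prime
      tors := fun v _ => ht v
      zr := h.zr
      xr := h.xr i
      zx := h.zx i
      zy := h.zy i
      conj := h.conj i
      Bz := hinv z rfl
      Bx := hinv _ (h.zx i)
      By := hinv _ (h.zy i)
      By' := hinv _ (Commute.inv_right (show Commute z (y i) from h.zy i))
      free := fun v hv hf => eq_zero h.zr hv (mem_fx.2 hf) }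
  have h3 := hstep.card_pow_le (C := (fx ρ (x i) ⊓ im ρ z).toAddSubgroup) (fun v => by
    show v ∈ fx ρ (x i) ⊓ im ρ z ↔ _
    rw [Submodule.mem_inf, mem_fx]
    exact and_comm)
  have h4 : Nat.card ↥(fx ρ (x i) ⊓ im ρ z) ^ 3 ≤ Nat.card ↥(im ρ z) := h3
  rw [Module.natCard_eq_pow_finrank (K := ZMod 2) (V := ↥(fx ρ (x i) ⊓ im ρ z)),
    Module.natCard_eq_pow_finrank (K := ZMod 2) (V := ↥(im ρ z)), Nat.card_zmod, ← pow_mul] at h4
  have h5 := (Nat.pow_le_pow_iff_right (by norm_num : 1 < 2)).1 h4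
  omega

/-! ### The additional involution -/

/-- **`[V, z]` is centralised by `j` if its dimension is less than 108.** -/
theorem j_trivial (h : Heis 3 3 z x y) {j : G} (jj : j * j = 1) (jx : ∀ i, j * x i = x i * j)
    (jy : ∀ i, j * y i = y i * j) (jz : j * z = z * j) (hd : finrank (ZMod 2) (im ρ z) < 108) :
    im ρ z ≤ fx ρ j := by
  have hsq : ∀ v : V, ρ j (ρ j v) = v := fun v => by rw [← mul_ap, jj, one_ap]
  by_contra hcon
  have hzim : ∀ g : G, g * z = z * g → ∀ v ∈ im ρ z, ρ g v ∈ im ρ z := by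
    intro g hg v hv
    obtain ⟨w, rfl⟩ := mem_im.1 hv
    refine mem_im.2 ⟨ρ g w, ?_⟩
    rw [map_add, comm_ap hg]
  -- `J = [[V, z], j]`
  set J : Submodule (ZMod 2) V := (im ρ z).map (ρ j - 1) with hJ
  have hJm : ∀ {v : V}, v ∈ J ↔ ∃ u ∈ im ρ z, ρ j u + u = v := by
    intro v
    rw [hJ, Submodule.mem_map]
    constructor
    · rintro ⟨u, hu, rfl⟩
      exact ⟨u, hu, by rw [LinearMap.sub_apply, Module.End.one_apply, ZModModule.sub_eq_add]⟩
    · rintro ⟨u, hu, rfl⟩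
      exact ⟨u, hu, by rw [LinearMap.sub_apply, Module.End.one_apply, ZModModule.sub_eq_add]⟩
  have h1 := finrank_map_add (ρ := ρ) j (im ρ z)
  rw [← hJ] at h1
  have hJle : J ≤ im ρ z ⊓ fx ρ j := by
    intro v hv
    obtain ⟨u, hu, rfl⟩ := hJm.1 hv
    refine ⟨add_mem (hzim j jz u hu) hu, mem_fx.2 ?_⟩
    rw [map_add, hsq, add_comm]
  have h2 := Submodule.finrank_mono hJle
  have h3 : 54 ≤ finrank (ZMod 2) J := by
    refine heis_sub (ρ := ρ) h (Subgroup.centralizer {z, j}) ?_ ?_ ?_ J ?_ ?_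
    · rw [Subgroup.mem_centralizer_iff]
      rintro g (rfl | rfl)
      · rfl
      · exact jz
    · intro i
      rw [Subgroup.mem_centralizer_iff]
      rintro g (rfl | rfl)
      · exact h.zx i
      · exact jx i
    · intro i
      rw [Subgroup.mem_centralizer_iff]
      rintro g (rfl | rfl)
      · exact h.zy i
      · exact jy i
    · intro e he v hv
      rw [Subgroup.mem_centralizer_iff] at he
      obtain ⟨u, hu, rfl⟩ := hJm.1 hv
      refine hJm.2 ⟨ρ e u, hzim e (he z (Set.mem_insert _ _)).symm u hu, ?_⟩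
      rw [map_add, comm_ap (he j (Set.mem_insert_of_mem _ rfl))]
    · -- `J ≠ 0`
      obtain ⟨u, hu, hne⟩ := SetLike.not_le_iff_exists.1 hcon
      have h4 : ρ j u + u ∈ J := hJm.2 ⟨u, hu, rfl⟩
      refine ⟨_, h4, fun h5 => hne ?_⟩
      have h6 := eq_zero h.zr (hJle h4).1 (mem_fx.2 h5)
      rw [mem_fx]
      have h7 : ρ j u = -u := eq_neg_of_add_eq_zero_left h6
      rw [h7, ZModModule.neg_eq_self]
  omega

/-- `im (g z g⁻¹) ≤ C_V(j)` for `g` commuting with `j` -/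
theorem im_conj_le {z g j : G} (jg : j * g = g * j) (h : im ρ z ≤ fx ρ j) : im ρ (g * z * g⁻¹) ≤ fx ρ j := by
  intro v hv
  obtain ⟨w, rfl⟩ := mem_im.1 hv
  have h1 : ρ (g * z * g⁻¹) w + w = ρ g (ρ z (ρ g⁻¹ w) + ρ g⁻¹ w) := by
    rw [map_add, mul_ap, mul_ap, inv_ap]
  rw [h1, mem_fx, comm_ap jg, mem_fx.1 (h (mem_im.2 ⟨_, rfl⟩))]

/-- **`2 dim [V, j] ≤ dim C_V(⟨z, w⟩)`** if `j` centralises `[V, z]` and `[V, w]`. -/
theorem two_le {z w j : G} (hz : z ^ 3 = 1) (hw : w ^ 3 = 1) (hzw : z * w = w * z) (jj : j * j = 1)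
    (jz : j * z = z * j) (jw : j * w = w * j) (h1 : im ρ z ≤ fx ρ j) (h2 : im ρ w ≤ fx ρ j) :
    2 * finrank (ZMod 2) V ≤ finrank (ZMod 2) ↥(fx ρ z ⊓ fx ρ w) + 2 * finrank (ZMod 2) (fx ρ j) := by
  set E := fx ρ z ⊓ fx ρ w with hE
  have hsup : E ⊔ fx ρ j = ⊤ := by
    rw [eq_top_iff]
    intro v _
    rw [split z v]
    refine add_mem ?_ ((le_sup_right : fx ρ j ≤ _) (h1 (rest_mem z v)))
    set u := v + ρ z v + ρ z (ρ z v) with hu
    have hu1 : u ∈ fx ρ z := norm_mem hz v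
    rw [split w u]
    refine add_mem ((le_sup_left : E ≤ _) ⟨?_, norm_mem hw u⟩) ((le_sup_right : fx ρ j ≤ _) (h2 (rest_mem w u)))
    rw [SetLike.mem_coe, mem_fx, map_add, map_add, comm_ap hzw, comm_ap hzw, comm_ap hzw, mem_fx.1 hu1]
  have hle : im ρ j ≤ E ⊓ fx ρ j := by
    intro v hv
    obtain ⟨u, rfl⟩ := mem_im.1 hv
    have hu : u ∈ E ⊔ fx ρ j := by rw [hsup]; exact Submodule.mem_top
    obtain ⟨a, ha, b, hb, rfl⟩ := Submodule.mem_sup.1 hu
    constructor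
    · have h3 : ρ j (a + b) + (a + b) = ρ j a + a := by
        have h4 := ZModModule.add_self b
        rw [map_add, mem_fx.1 hb, add_add_add_comm, h4, add_zero]
      rw [h3]
      refine add_mem ⟨?_, ?_⟩ ha
      · rw [SetLike.mem_coe, mem_fx, comm_ap jz.symm, mem_fx.1 ha.1]
      · rw [SetLike.mem_coe, mem_fx, comm_ap jw.symm, mem_fx.1 ha.2]
    · rw [SetLike.mem_coe, mem_fx, map_add, ← mul_ap, jj, one_ap, add_comm]
  have h3 := Submodule.finrank_sup_add_finrank_inf_eq E (fx ρ j)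
  rw [hsup, finrank_top] at h3
  have h4 := Submodule.finrank_mono hle
  have h5 := finrank_im_add (ρ := ρ) j
  omega

/-- an involution inverting `x` -/
theorem inv_le {b x : G} (hb : b * b = 1) (hx : x ^ 3 = 1) (h : b * x * b⁻¹ = x⁻¹) :
    2 * finrank (ZMod 2) (fx ρ b) ≤ finrank (ZMod 2) (fx ρ x) + finrank (ZMod 2) V := by
  have h1 : b * (x * b * x⁻¹) = x := by
    have h2 : b * x * b = x⁻¹ := by
      have h3 : b⁻¹ = b := inv_eq_of_mul_eq_one_left hb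
      rwa [h3] at h
    calc b * (x * b * x⁻¹) = b * x * b * x⁻¹ := by simp only [mul_assoc]
      _ = x⁻¹ * x⁻¹ := by rw [h2]
      _ = x := by
        rw [← mul_inv_rev, inv_eq_iff_mul_eq_one, ← hx, pow_succ, pow_two]
  have h2 : fx ρ b ⊓ fx ρ (x * b * x⁻¹) ≤ fx ρ x := by
    intro v hv
    rw [mem_fx, ← h1, mul_ap, mem_fx.1 hv.2, mem_fx.1 hv.1]
  have h3 := Submodule.finrank_sup_add_finrank_inf_eq (fx ρ b) (fx ρ (x * b * x⁻¹))
  have h4 := Submodule.finrank_mono h2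
  have h5 := Submodule.finrank_le (fx ρ b ⊔ fx ρ (x * b * x⁻¹))
  rw [finrank_fx_conj] at h3
  omega

/-- `dim C_V(x) ≤ dim (C_V(x) ∩ C_V(z)) + dim (C_V(x) ∩ [V, z])` -/
theorem fx_le {z x : G} (hzx : z * x = x * z) :
    finrank (ZMod 2) (fx ρ x) ≤ finrank (ZMod 2) ↥(fx ρ z ⊓ fx ρ x) + finrank (ZMod 2) ↥(fx ρ x ⊓ im ρ z) := by
  have h1 := finrank_map_add (ρ := ρ) z (fx ρ x)
  have h2 : (fx ρ x).map (ρ z - 1) ≤ fx ρ x ⊓ im ρ z := by
    rintro _ ⟨u, hu, rfl⟩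
    refine ⟨?_, ⟨u, rfl⟩⟩
    rw [SetLike.mem_coe, mem_fx, LinearMap.sub_apply, Module.End.one_apply, map_sub, comm_ap hzx.symm, mem_fx.1 hu]
  have h3 := Submodule.finrank_mono h2
  rw [inf_comm (fx ρ x) (fx ρ z)] at h1
  omega

/-- `e ≥ 3 a - 2 c` -/
theorem inf_three_le {C A₀ A₁ A₂ E : Submodule (ZMod 2) V} (h0 : A₀ ≤ C) (h1 : A₁ ≤ C) (h2 : A₂ ≤ C)
    (hE : A₀ ⊓ A₁ ⊓ A₂ ≤ E) :
    finrank (ZMod 2) A₀ + finrank (ZMod 2) A₁ + finrank (ZMod 2) A₂ ≤
      finrank (ZMod 2) E + 2 * finrank (ZMod 2) C := by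
  have h3 := Submodule.finrank_sup_add_finrank_inf_eq A₀ A₁
  have h4 := Submodule.finrank_sup_add_finrank_inf_eq (A₀ ⊓ A₁) A₂
  have h5 := Submodule.finrank_mono (_root_.sup_le h0 h1)
  have h6 := Submodule.finrank_mono (_root_.sup_le (inf_le_left.trans h0 : A₀ ⊓ A₁ ≤ C) h2)
  have h7 := Submodule.finrank_mono hE
  omega

/-- **The bound.** -/
theorem finrank_ge (h : Heis 3 3 z x y) {j g g₀ : G} (hne : ∃ v : V, ρ z v ≠ v) (jj : j * j = 1)
    (jx : ∀ i, j * x i = x i * j) (jy : ∀ i, j * y i = y i * j) (jz : j * z = z * j) (jg : j * g = g * j)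
    (hg : g * z * g⁻¹ = x 0 * x 1 * x 2) (hs : ∀ i, ∃ s, s * z = z * s ∧ s * x 0 * s⁻¹ = x i)
    (hb : (g₀ * j * g₀⁻¹) * x 0 * (g₀ * j * g₀⁻¹)⁻¹ = (x 0)⁻¹) : 114 ≤ finrank (ZMod 2) V := by
  set w := g * z * g⁻¹ with hw
  have hw3 : w ^ 3 = 1 := by rw [hw, conj_pow, h.zr, mul_one, mul_inv_cancel]
  have hzw : z * w = w * z := by
    have h1 : Commute z (x 0 * x 1 * x 2) := ((show Commute z (x 0) from h.zx 0).mul_right (h.zx 1)).mul_right (h.zx 2)
    rw [hg]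
    exact h1
  have jw : j * w = w * j := by
    have h1 : Commute j (x 0 * x 1 * x 2) := ((show Commute j (x 0) from jx 0).mul_right (jx 1)).mul_right (jx 2)
    rw [hg]
    exact h1
  -- the four subgroups of `⟨z, w⟩`
  have y0w : y 0 * w * (y 0)⁻¹ = z * w := by
    have h1 : y 0 * x 1 = x 1 * y 0 := h.yx 0 1 (by decide)
    have h2 : y 0 * x 2 = x 2 * y 0 := h.yx 0 2 (by decide)
    have h3 := h.conj 0
    rw [hg]
    calc y 0 * (x 0 * x 1 * x 2) * (y 0)⁻¹ = y 0 * x 0 * (x 1 * (x 2 * (y 0)⁻¹)) := by simp only [mul_assoc]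
      _ = y 0 * x 0 * (x 1 * ((y 0)⁻¹ * x 2)) := by
        rw [show x 2 * (y 0)⁻¹ = (y 0)⁻¹ * x 2 by
          rw [mul_inv_eq_iff_eq_mul, mul_assoc, ← h2, inv_mul_cancel_left]]
      _ = y 0 * x 0 * ((y 0)⁻¹ * x 1 * x 2) := by
        rw [show x 1 * ((y 0)⁻¹ * x 2) = (y 0)⁻¹ * x 1 * x 2 by
          rw [← mul_assoc]
          congr 1
          rw [mul_inv_eq_iff_eq_mul, mul_assoc, ← h1, inv_mul_cancel_left]]
      _ = (y 0 * x 0 * (y 0)⁻¹) * (x 1 * x 2) := by simp only [mul_assoc]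
      _ = x 0 * z * (x 1 * x 2) := by rw [h3]
      _ = z * (x 0 * x 1 * x 2) := by rw [← h.zx 0]; simp only [mul_assoc]
  have f1 : finrank (ZMod 2) (fx ρ w) = finrank (ZMod 2) (fx ρ z) := finrank_fx_conj g z
  have f2 : finrank (ZMod 2) (fx ρ (z * w)) = finrank (ZMod 2) (fx ρ z) := by
    rw [← y0w, finrank_fx_conj, f1]
  have f3 : finrank (ZMod 2) (fx ρ (z * (z * w))) = finrank (ZMod 2) (fx ρ z) := by
    have h1 : y 0 * (z * w) * (y 0)⁻¹ = z * (z * w) := by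
      calc y 0 * (z * w) * (y 0)⁻¹ = z * (y 0 * w * (y 0)⁻¹) := by
            rw [← mul_assoc (y 0), ← h.zy 0]; simp only [mul_assoc]
        _ = z * (z * w) := by rw [y0w]
    rw [← h1, finrank_fx_conj, f2]
  have h4 := four_le (ρ := ρ) h.zr hw3 hzw
  rw [f1, f2, f3] at h4
  have hn := finrank_im_add (ρ := ρ) z
  -- `dim [V, z] ≥ 54`
  have hd : 54 ≤ finrank (ZMod 2) (im ρ z) := by
    refine heis_sub (ρ := ρ) h (Subgroup.centralizer {z}) ?_ ?_ ?_ (im ρ z) ?_ ?_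
    · rw [Subgroup.mem_centralizer_iff]
      rintro g rfl
      rfl
    · intro i
      rw [Subgroup.mem_centralizer_iff]
      rintro g rfl
      exact h.zx i
    · intro i
      rw [Subgroup.mem_centralizer_iff]
      rintro g rfl
      exact h.zy i
    · intro e he v hv
      rw [Subgroup.mem_centralizer_iff] at he
      obtain ⟨u, rfl⟩ := mem_im.1 hv
      refine mem_im.2 ⟨ρ e u, ?_⟩
      rw [map_add, comm_ap (he z rfl)]
    · obtain ⟨v, hv⟩ := hne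
      refine ⟨ρ z v + v, mem_im.2 ⟨v, rfl⟩, fun h1 => hv ?_⟩
      have h2 := eq_zero h.zr (mem_im.2 ⟨v, rfl⟩) (mem_fx.2 h1)
      have h3 : ρ z v = -v := eq_neg_of_add_eq_zero_left h2
      rw [h3, ZModModule.neg_eq_self]
  -- the elements `x i`
  have ha : ∀ i, finrank (ZMod 2) ↥(fx ρ z ⊓ fx ρ (x i)) = finrank (ZMod 2) ↥(fx ρ z ⊓ fx ρ (x 0)) := by
    intro i
    obtain ⟨s, hs1, hs2⟩ := hs i
    rw [← hs2, finrank_inf_conj hs1]
  have h5 := inf_three_le (inf_le_left : fx ρ z ⊓ fx ρ (x 0) ≤ fx ρ z) (inf_le_left : fx ρ z ⊓ fx ρ (x 1) ≤ fx ρ z)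
    (inf_le_left : fx ρ z ⊓ fx ρ (x 2) ≤ fx ρ z) (E := fx ρ z ⊓ fx ρ w) (by
      intro v hv
      refine ⟨hv.2.1, ?_⟩
      rw [SetLike.mem_coe, mem_fx, hg, mul_ap, mul_ap, mem_fx.1 hv.2.2, mem_fx.1 hv.1.2.2, mem_fx.1 hv.1.1.2])
  rw [ha 1, ha 2] at h5
  have h6 := fx_le (ρ := ρ) (h.zx 0)
  have h7 := three_le (ρ := ρ) h 0
  have h8 := inv_le (ρ := ρ) (b := g₀ * j * g₀⁻¹) (by
    calc g₀ * j * g₀⁻¹ * (g₀ * j * g₀⁻¹) = g₀ * (j * j) * g₀⁻¹ := by group
      _ = 1 := by rw [jj, mul_one, mul_inv_cancel]) (h.xr 0) hb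
  rw [finrank_fx_conj] at h8
  by_cases hd2 : finrank (ZMod 2) (im ρ z) < 108
  · have h9 := j_trivial h jj jx jy jz hd2
    have h10 := two_le h.zr hw3 hzw jj jz jw h9 (im_conj_le jg h9)
    omega
  · omega

end

end Cfsg.Agent.H293.FF.YDim
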